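import Mathlib

/-!
A finite group `K` with an extraspecial Sylow 3-subgroup `S` of order 27 in which the subgroup `U2` of order 9 is strongly
closed (auxiliary results for `Cfsg.Agent.H410.Co1.Move`).
-/

set_option autoImplicit false
set_option linter.style.longLine false

namespace Cfsg.Agent.H410.Co1

open Subgroup

variable {K : Type*} [Group K]

/-- the situation -/
structure Sys (S : Sylow 3 K) (U1 U2 : Subgroup K) (z : K) : Prop where
  cardS : Nat.card S = 27
  le1 : U1 ≤ S
  le2 : U2 ≤ S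
  card1 : Nat.card U1 = 9
  card2 : Nat.card U2 = 9
  inf : U1 ⊓ U2 = zpowers z
  z_ne : z ≠ 1
  z3 : z ^ 3 = 1
  z_comm : ∀ x ∈ S, x * z = z * x
  center : ∀ x ∈ S, (∀ y ∈ S, x * y = y * x) → x ∈ zpowers z
  scl : ∀ x ∈ U2, ∀ g : K, g * x * g⁻¹ ∈ S → g * x * g⁻¹ ∈ U2
  type : ∀ g : K, ∀ x ∈ U1, g * x * g⁻¹ ∈ S → g * x * g⁻¹ ∈ U1 ∨ g * x * g⁻¹ ∈ U2
  sig : ∀ R : Subgroup K, (∀ t ∈ S, ∀ r ∈ R, t * r * t⁻¹ ∈ R) → ¬ 3 ∣ Nat.card R → R = ⊥

instance fact3 : Fact (Nat.Prime 3) := ⟨Nat.prime_three⟩

/-- commutators of a group of order 27 lie in a subgroup of order 9 -/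
theorem comm_mem [Finite K] {S V : Subgroup K} (hS : Nat.card S = 27) (hVS : V ≤ S) (hV : Nat.card V = 9)
    {x y : K} (hx : x ∈ S) (hy : y ∈ S) : x * y * x⁻¹ * y⁻¹ ∈ V := by
  have hcardV : Nat.card (V.subgroupOf S) = 9 := by
    rw [← hV]; exact Nat.card_congr (subgroupOfEquivOfLe hVS).toEquiv
  have hidx : (V.subgroupOf S).index = 3 := by
    have h := (V.subgroupOf S).card_mul_index
    rw [hcardV, hS] at h; omega
  have hmf : Nat.minFac 27 = 3 := by norm_num
  have hn : (V.subgroupOf S).Normal := by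
    apply normal_of_index_eq_minFac_card
    rw [hidx, hS, hmf]
  have hc : IsCyclic (S ⧸ V.subgroupOf S) := by
    apply isCyclic_of_prime_card (p := 3)
    rw [← hidx]; rfl
  let _ : CommGroup (S ⧸ V.subgroupOf S) := IsCyclic.commGroup
  have h1 : (QuotientGroup.mk' (V.subgroupOf S)) (⟨x, hx⟩ * ⟨y, hy⟩ * ⟨x, hx⟩⁻¹ * ⟨y, hy⟩⁻¹) = 1 := by
    rw [map_mul, map_mul, map_mul, map_inv, map_inv]
    rw [mul_comm ((QuotientGroup.mk' (V.subgroupOf S)) ⟨x, hx⟩) ((QuotientGroup.mk' (V.subgroupOf S)) ⟨y, hy⟩)]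
    group
  have h2 : (⟨x, hx⟩ * ⟨y, hy⟩ * ⟨x, hx⟩⁻¹ * ⟨y, hy⟩⁻¹ : S) ∈ V.subgroupOf S := by
    rw [← QuotientGroup.ker_mk' (V.subgroupOf S)]; exact h1
  rw [mem_subgroupOf] at h2
  simpa using h2

theorem conj_mem_of_card [Finite K] {S V : Subgroup K} (hS : Nat.card S = 27) (hVS : V ≤ S) (hV : Nat.card V = 9)
    {x v : K} (hx : x ∈ S) (hv : v ∈ V) : x * v * x⁻¹ ∈ V := by
  have h := comm_mem hS hVS hV hx (hVS hv)
  have h2 := V.mul_mem h hv
  rwa [inv_mul_cancel_right] at h2

theorem comm_of_card {V : Subgroup K} (hV : Nat.card V = 9) {x y : K} (hx : x ∈ V) (hy : y ∈ V) : x * y = y * x := by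
  have h : IsMulCommutative V := IsPGroup.isMulCommutative_of_card_eq_prime_sq (p := 3) (by rw [hV]; norm_num)
  exact congrArg Subtype.val (h.is_comm.comm (⟨x, hx⟩ : V) ⟨y, hy⟩)

namespace Sys

variable {S : Sylow 3 K} {U1 U2 : Subgroup K} {z : K}

theorem card_z (h : Sys S U1 U2 z) : Nat.card (zpowers z) = 3 := by
  rw [Nat.card_zpowers]
  exact orderOf_eq_prime h.z3 h.z_ne

theorem z_mem1 (h : Sys S U1 U2 z) : zpowers z ≤ U1 := by
  rw [← h.inf]; exact inf_le_left

theorem z_mem2 (h : Sys S U1 U2 z) : zpowers z ≤ U2 := by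
  rw [← h.inf]; exact inf_le_right

/-- elements of order 3-power normalising `S` are in `S` -/
theorem mem_of_pow {x : K} (hx : x ∈ normalizer (S : Set K)) {n : ℕ} (hn : orderOf x = 3 ^ n) : x ∈ S := by
  have hp : IsPGroup 3 (zpowers x) := by
    apply IsPGroup.of_card (n := n)
    rw [Nat.card_zpowers, hn]
  have h1 := hp.inf_normalizer_sylow S
  have h2 : x ∈ zpowers x ⊓ normalizer (S : Set K) := ⟨mem_zpowers x, hx⟩
  rw [h1] at h2
  exact h2.2

/-- an element that centralises `S` is in `⟨z⟩` -/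
theorem centralizer_S [Finite K] (h : Sys S U1 U2 z) {x : K} (hx : ∀ y ∈ S, x * y = y * x) : x ∈ zpowers z := by
  apply h.center x _ hx
  have hxn : ∀ k : ℕ, ∀ y ∈ S, x ^ k * y = y * x ^ k := fun k y hy => (Commute.pow_left (hx y hy) k)
  obtain ⟨n, m, hm, hnm⟩ := Nat.exists_eq_pow_mul_and_not_dvd (n := orderOf x) (orderOf_pos x).ne' 3 (by norm_num)
  have h1 : zpowers (x ^ 3 ^ n) = ⊥ := by
    apply h.sig
    · intro t ht r hr
      obtain ⟨k, rfl⟩ := mem_zpowers_iff.1 hr
      have h2 : Commute ((x ^ 3 ^ n) ^ k) t := Commute.zpow_left (hxn _ t ht) k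
      rw [← h2.eq, mul_inv_cancel_right]
      exact hr
    · rw [Nat.card_zpowers, orderOf_pow, hnm]
      rw [Nat.gcd_eq_right (Dvd.intro _ rfl), Nat.mul_div_cancel_left _ (by positivity)]
      exact hm
  rw [zpowers_eq_bot] at h1
  obtain ⟨k, hk, hk2⟩ := (Nat.dvd_prime_pow Nat.prime_three).1 (orderOf_dvd_of_pow_eq_one h1)
  refine mem_of_pow (S := S) ?_ hk2
  show x ∈ normalizer ((S : Subgroup K) : Set K)
  rw [mem_normalizer_iff]
  intro y
  constructor
  · intro hy
    rw [hx y hy, mul_inv_cancel_right]; exact hy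
  · intro hy
    have h3 := hx _ hy
    have h4 : x * (x * y * x⁻¹) * x⁻¹ = x * y * x⁻¹ := by rw [h3, mul_inv_cancel_right]
    have h5 : x * y * x⁻¹ = y := by
      have h6 := mul_right_cancel h4
      exact mul_left_cancel h6
    rw [← h5]; exact hy

/-- every 3-subgroup that is commutative has order at most 9 -/
theorem card_comm_le [Finite K] (h : Sys S U1 U2 z) {W : Subgroup K} (hW : IsPGroup 3 W) (hc : ∀ x ∈ W, ∀ y ∈ W, x * y = y * x) :
    Nat.card W ≤ 9 := by
  obtain ⟨Q, hQ⟩ := hW.exists_le_sylow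
  obtain ⟨g, hg⟩ := MulAction.exists_smul_eq K S Q
  by_contra hlt
  push Not at hlt
  have hcQ : Nat.card Q = 27 := by rw [← h.cardS]; exact Nat.card_congr (Sylow.equiv Q S).toEquiv
  obtain ⟨n, hn⟩ := IsPGroup.iff_card.1 hW
  have hd : Nat.card W ∣ 27 := by rw [← hcQ]; exact card_dvd_of_le hQ
  have h27 : Nat.card W = 27 := by
    have h1 : 3 ^ n ∣ 3 ^ 3 := by rw [← hn]; exact hd
    have h2 : n ≤ 3 := (Nat.pow_dvd_pow_iff_le_right (by norm_num)).1 h1
    interval_cases n <;> simp_all
  have hWQ : W = Q := by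
    apply eq_of_le_of_card_ge hQ
    rw [h27]; exact hcQ.le
  -- so `S` is commutative
  have hS : ∀ x ∈ S, ∀ y ∈ S, x * y = y * x := by
    intro x hx y hy
    have hm : ∀ x ∈ S, g * x * g⁻¹ ∈ W := by
      intro x hx
      rw [hWQ, ← hg]
      exact Subgroup.smul_mem_pointwise_smul x (MulAut.conj g) (S : Subgroup K) hx
    have h3 := hc _ (hm x hx) _ (hm y hy)
    have h4 : g * (x * y) * g⁻¹ = g * (y * x) * g⁻¹ := by
      calc g * (x * y) * g⁻¹ = g * x * g⁻¹ * (g * y * g⁻¹) := by group
        _ = _ := h3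
        _ = _ := by group
    exact mul_left_cancel (mul_right_cancel h4)
  have h5 : (S : Subgroup K) ≤ zpowers z := fun x hx => h.center x hx (hS x hx)
  have h6 := card_le_of_le h5
  rw [h.card_z] at h6
  have h7 := h.cardS
  have h8 : Nat.card (S : Subgroup K) = 27 := h7
  omega

/-- `C(V) = V` for `V ≤ S` of order 9 -/
theorem centralizer_V [Finite K] (h : Sys S U1 U2 z) {V : Subgroup K} (hVS : V ≤ S) (hV : Nat.card V = 9) {x : K}
    (hx : ∀ v ∈ V, x * v = v * x) : x ∈ V := by
  have hVp : IsPGroup 3 V := S.isPGroup'.to_le hVS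
  have hVc : ∀ x ∈ V, ∀ y ∈ V, x * y = y * x := fun x hx y hy => comm_of_card hV hx hy
  have hVC : V ≤ centralizer (V : Set K) := by
    intro v hv
    rw [mem_centralizer_iff]
    intro w hw
    exact hVc w hw v hv
  -- `3`-elements of the centralizer are in `V`
  have h3 : ∀ x : K, (∀ v ∈ V, x * v = v * x) → ∀ n : ℕ, orderOf x = 3 ^ n → x ∈ V := by
    intro x hx n hn
    have hp : IsPGroup 3 (zpowers x) := by
      apply IsPGroup.of_card (n := n)
      rw [Nat.card_zpowers, hn]
    have hcomm : ∀ a ∈ zpowers x, ∀ v ∈ V, a * v = v * a := by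
      intro a ha v hv
      obtain ⟨k, rfl⟩ := mem_zpowers_iff.1 ha
      exact Commute.zpow_left (hx v hv) k
    have hle : zpowers x ≤ normalizer (V : Set K) := by
      intro a ha
      rw [mem_normalizer_iff]
      intro v
      constructor
      · intro hv
        rw [hcomm a ha v hv, mul_inv_cancel_right]; exact hv
      · intro hv
        have h3 := hcomm a ha _ hv
        have h4 : a * (a * v * a⁻¹) * a⁻¹ = a * v * a⁻¹ := by rw [h3, mul_inv_cancel_right]
        have h5 : a * v * a⁻¹ = v := by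
          have h6 := mul_right_cancel h4
          exact mul_left_cancel h6
        rw [← h5]; exact hv
    have hsup : IsPGroup 3 ↥(zpowers x ⊔ V) := hp.to_sup_of_normal_right' hVp hle
    have hsc : ∀ a ∈ zpowers x ⊔ V, ∀ b ∈ zpowers x ⊔ V, a * b = b * a := by
      have hle1 : zpowers x ⊔ V ≤ centralizer ((zpowers x ⊔ V : Subgroup K) : Set K) := by
        rw [sup_le_iff]
        constructor
        · rw [le_centralizer_iff, sup_le_iff]
          constructor
          · intro a ha
            rw [mem_centralizer_iff]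
            intro b hb
            obtain ⟨k, rfl⟩ := mem_zpowers_iff.1 ha
            obtain ⟨l, rfl⟩ := mem_zpowers_iff.1 hb
            exact (Commute.refl x).zpow_zpow l k
          · intro a ha
            rw [mem_centralizer_iff]
            intro b hb
            exact hcomm b hb a ha
        · rw [le_centralizer_iff, sup_le_iff]
          constructor
          · intro a ha
            rw [mem_centralizer_iff]
            intro b hb
            exact (hcomm a ha b hb).symm
          · exact hVC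
      intro a ha b hb
      exact (mem_centralizer_iff.1 (hle1 hb) a ha)
    have hcard := h.card_comm_le hsup hsc
    have heq : V = zpowers x ⊔ V := by
      apply eq_of_le_of_card_ge le_sup_right
      rw [hV]; exact hcard
    rw [heq]
    exact le_sup_left (a := zpowers x) (b := V) (mem_zpowers x)
  -- the centralizer
  set C : Subgroup K := centralizer (V : Set K) with hCdef
  have hmemC : ∀ x : K, x ∈ C ↔ ∀ v ∈ V, x * v = v * x := by
    intro x
    rw [hCdef, mem_centralizer_iff]
    exact ⟨fun hh v hv => (hh v hv).symm, fun hh v hv => (hh v hv).symm⟩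
  obtain ⟨Q⟩ : Nonempty (Sylow 3 C) := inferInstance
  have hQV : (Q : Subgroup C) = V.subgroupOf C := by
    symm
    apply Q.is_maximal'
    · exact hVp.comap_of_injective C.subtype C.subtype_injective
    · intro q hq
      rw [mem_subgroupOf]
      obtain ⟨n, hn⟩ := (IsPGroup.iff_orderOf.1 Q.isPGroup') ⟨q, hq⟩
      apply h3 (q : K) ((hmemC q).1 q.2) n
      rw [← hn]
      rw [← orderOf_submonoid (⟨q, hq⟩ : Q)] 
      exact orderOf_submonoid q
  have hcent : normalizer ((Q : Subgroup C) : Set C) ≤ centralizer ((Q : Subgroup C) : Set C) := by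
    intro c _
    rw [mem_centralizer_iff]
    intro q hq
    rw [hQV] at hq
    apply Subtype.ext
    exact ((hmemC c).1 c.2 q (mem_subgroupOf.1 hq)).symm
  have hcompl := MonoidHom.ker_transferSylow_isComplement' Q hcent
  set R : Subgroup C := (MonoidHom.transferSylow Q hcent).ker with hR
  have hRn : R.Normal := MonoidHom.normal_ker _
  have hRcop : ¬ 3 ∣ Nat.card R := by
    have h4 := hcompl.card_mul_card
    have h5 : ¬ 3 ∣ (Q : Subgroup C).index := Q.not_dvd_index
    have h6 := (Q : Subgroup C).card_mul_index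
    have h7 : Nat.card R = (Q : Subgroup C).index := by
      have h8 : Nat.card R * Nat.card (Q : Subgroup C) = (Q : Subgroup C).index * Nat.card (Q : Subgroup C) := by
        rw [h4, ← h6, mul_comm]
      exact Nat.eq_of_mul_eq_mul_right Nat.card_pos h8
    rw [h7]; exact h5
  -- elements of `R` are the elements of order prime to 3
  have hmem : ∀ c : C, c ∈ R ↔ ¬ 3 ∣ orderOf c := by
    intro c
    constructor
    · intro hc h9
      apply hRcop
      have h10 : orderOf (⟨c, hc⟩ : R) ∣ Nat.card R := orderOf_dvd_natCard _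
      rw [← orderOf_submonoid] at h10
      exact h9.trans h10
    · intro hc
      have h11 : orderOf (QuotientGroup.mk' R c) ∣ orderOf c := orderOf_map_dvd _ _
      have h12 : orderOf (QuotientGroup.mk' R c) ∣ Nat.card (C ⧸ R) := orderOf_dvd_natCard _
      have h13 : Nat.card (C ⧸ R) = Nat.card Q := by
        have h14 : R.index = Nat.card (Q : Subgroup C) := by
          exact hcompl.card_right.symm
        rw [← h14]; rfl
      obtain ⟨n, hn⟩ := IsPGroup.iff_card.1 Q.isPGroup'
      rw [h13, hn] at h12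
      have h15 : Nat.Coprime (orderOf (QuotientGroup.mk' R c)) 3 := by
        apply Nat.Coprime.symm
        rw [Nat.Prime.coprime_iff_not_dvd Nat.prime_three]
        exact fun hh => hc (hh.trans h11)
      have h16 : orderOf (QuotientGroup.mk' R c) = 1 := Nat.Coprime.eq_one_of_dvd (h15.pow_right n) h12
      rw [orderOf_eq_one_iff] at h16
      rw [← QuotientGroup.ker_mk' R]
      exact h16
  have hRbot : R.map C.subtype = ⊥ := by
    apply h.sig
    · intro t ht r hr
      obtain ⟨c, hc, rfl⟩ := mem_map.1 hr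
      have hconj : t * (c : K) * t⁻¹ ∈ C := by
        rw [hmemC]
        intro v hv
        have h17 : t⁻¹ * v * t ∈ V := by
          have h18 := conj_mem_of_card (show Nat.card (S : Subgroup K) = 27 from h.cardS) hVS hV (S.inv_mem ht) hv
          rwa [inv_inv] at h18
        have h19 := (hmemC c).1 c.2 _ h17
        calc t * (c : K) * t⁻¹ * v = t * ((c : K) * (t⁻¹ * v * t)) * t⁻¹ := by group
          _ = t * ((t⁻¹ * v * t) * (c : K)) * t⁻¹ := by rw [h19]
          _ = v * (t * (c : K) * t⁻¹) := by group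
      refine ⟨⟨t * (c : K) * t⁻¹, hconj⟩, ?_, rfl⟩
      show _ ∈ R
      rw [hmem]
      have h20 : orderOf (⟨t * (c : K) * t⁻¹, hconj⟩ : C) = orderOf c := by
        rw [← orderOf_submonoid, ← orderOf_submonoid c]
        exact orderOf_injective (MulAut.conj t).toMonoidHom (MulAut.conj t).injective (c : K)
      rw [h20]
      exact (hmem c).1 hc
    · rw [card_map_of_injective C.subtype_injective]
      exact hRcop
  have hR1 : R = ⊥ := by
    rw [map_eq_bot_iff_of_injective _ C.subtype_injective] at hRbot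
    exact hRbot
  rw [hR1] at hcompl
  have hQtop : (Q : Subgroup C) = ⊤ := isComplement'_bot_left.1 hcompl
  rw [hQV] at hQtop
  have hxC : x ∈ C := (hmemC x).2 hx
  have h21 : (⟨x, hxC⟩ : C) ∈ V.subgroupOf C := by rw [hQtop]; exact mem_top _
  exact mem_subgroupOf.1 h21

end Sys

end Cfsg.Agent.H410.Co1
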