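import Mathlib
import Cfsg.Agent.H410.Co1.Sys

/-!
The order of the normaliser of `S` and the number of Sylow subgroups in the situation `Sys`.
-/

set_option autoImplicit false
set_option linter.style.longLine false

namespace Cfsg.Agent.H410.Co1

open Subgroup

variable {K : Type*} [Group K]

namespace Sys

variable {S : Sylow 3 K} {U1 U2 : Subgroup K} {z : K}

theorem cardS' (h : Sys S U1 U2 z) : Nat.card (S : Subgroup K) = 27 := h.cardS

theorem exists_not_mem [Finite K] {U : Subgroup K} (hU : Nat.card U = 9) (h : Sys S U1 U2 z) : ∃ u ∈ U, u ∉ zpowers z := by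
  by_contra hcon
  push Not at hcon
  have h1 : U ≤ zpowers z := hcon
  have h2 := card_le_of_le h1
  rw [h.card_z, hU] at h2
  omega

theorem sup_eq [Finite K] (h : Sys S U1 U2 z) {U : Subgroup K} (hU : Nat.card U = 9) (hzU : zpowers z ≤ U) {u : K}
    (hu : u ∈ U) (huz : u ∉ zpowers z) : zpowers u ⊔ zpowers z = U := by
  apply eq_of_le_of_card_ge (sup_le (by rwa [zpowers_le]) hzU)
  have h1 : Nat.card (zpowers z) ∣ Nat.card ↥(zpowers u ⊔ zpowers z) := card_dvd_of_le le_sup_right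
  have h2 : Nat.card ↥(zpowers u ⊔ zpowers z) ∣ Nat.card U := card_dvd_of_le (sup_le (by rwa [zpowers_le]) hzU)
  rw [hU] at h2 ⊢
  rw [h.card_z] at h1
  have h3 : Nat.card ↥(zpowers u ⊔ zpowers z) ≠ 3 := by
    intro h4
    apply huz
    have h5 : zpowers z = zpowers u ⊔ zpowers z := eq_of_le_of_card_ge le_sup_right (by rw [h4, h.card_z])
    rw [h5]
    exact le_sup_left (a := zpowers u) (b := zpowers z) (mem_zpowers u)
  have h4 : Nat.card ↥(zpowers u ⊔ zpowers z) ∣ 3 ^ 2 := h2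
  obtain ⟨k, hk, hk2⟩ := (Nat.dvd_prime_pow Nat.prime_three).1 h4
  rw [hk2] at h1 h3 ⊢
  interval_cases k
  · norm_num at h1
  · norm_num at h3
  · norm_num

theorem sup_U [Finite K] (h : Sys S U1 U2 z) : U1 ⊔ U2 = S := by
  apply eq_of_le_of_card_ge (sup_le h.le1 h.le2)
  have h1 : Nat.card U1 ∣ Nat.card ↥(U1 ⊔ U2) := card_dvd_of_le le_sup_left
  have h2 : Nat.card ↥(U1 ⊔ U2) ∣ Nat.card (S : Subgroup K) := card_dvd_of_le (sup_le h.le1 h.le2)
  rw [h.cardS'] at h2 ⊢
  rw [h.card1] at h1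
  have h3 : Nat.card ↥(U1 ⊔ U2) ≠ 9 := by
    intro h4
    have h5 : U1 = U1 ⊔ U2 := eq_of_le_of_card_ge le_sup_left (by rw [h4, h.card1])
    have h6 : U2 = U1 ⊔ U2 := eq_of_le_of_card_ge le_sup_right (by rw [h4, h.card2])
    have h7 := h.inf
    rw [← h6.trans h5.symm, inf_idem] at h7
    have h8 := h.card_z
    rw [← h7, h.card2] at h8
    omega
  have h4 : Nat.card ↥(U1 ⊔ U2) ∣ 3 ^ 3 := h2
  obtain ⟨k, hk, hk2⟩ := (Nat.dvd_prime_pow Nat.prime_three).1 h4
  rw [hk2] at h1 h3 ⊢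
  interval_cases k
  · norm_num at h1
  · norm_num at h1
  · norm_num at h3
  · norm_num

theorem comm_z [Finite K] (h : Sys S U1 U2 z) {x y : K} (hx : x ∈ S) (hy : y ∈ S) : x * y * x⁻¹ * y⁻¹ ∈ zpowers z := by
  rw [← h.inf]
  exact ⟨comm_mem h.cardS' h.le1 h.card1 hx hy, comm_mem h.cardS' h.le2 h.card2 hx hy⟩

/-- an element commuting with `u1` and `u2` commutes with `S` -/
theorem comm_of_gens [Finite K] (h : Sys S U1 U2 z) {u1 u2 : K} (h1 : u1 ∈ U1) (h1z : u1 ∉ zpowers z) (h2 : u2 ∈ U2)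
    (h2z : u2 ∉ zpowers z) {x : K} (hx1 : x * u1 = u1 * x) (hx2 : x * u2 = u2 * x) : x ∈ zpowers z := by
  -- the commutator of `u1`, `u2`
  set c : K := u1 * u2 * u1⁻¹ * u2⁻¹ with hc
  have hcz : c ∈ zpowers z := h.comm_z (h.le1 h1) (h.le2 h2)
  have hgen : ∀ w : K, w * u1 = u1 * w → w * u2 = u2 * w → w * z = z * w → ∀ s ∈ S, w * s = s * w := by
    intro w hw1 hw2 hwz s hs
    have e1 : zpowers u1 ⊔ zpowers z ≤ centralizer {w} := by
      rw [sup_le_iff, zpowers_le, zpowers_le, mem_centralizer_singleton_iff, mem_centralizer_singleton_iff]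
      exact ⟨hw1.symm, hwz.symm⟩
    have e2 : zpowers u2 ⊔ zpowers z ≤ centralizer {w} := by
      rw [sup_le_iff, zpowers_le, zpowers_le, mem_centralizer_singleton_iff, mem_centralizer_singleton_iff]
      exact ⟨hw2.symm, hwz.symm⟩
    rw [h.sup_eq h.card1 h.z_mem1 h1 h1z] at e1
    rw [h.sup_eq h.card2 h.z_mem2 h2 h2z] at e2
    have e3 : (S : Subgroup K) ≤ centralizer {w} := by
      rw [← h.sup_U]; exact sup_le e1 e2
    exact (mem_centralizer_singleton_iff.1 (e3 hs)).symm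
  have hc1 : c ≠ 1 := by
    intro hc1
    apply h1z
    have h12 : u1 * u2 = u2 * u1 := by
      rw [hc, mul_inv_eq_one, mul_inv_eq_iff_eq_mul] at hc1
      exact hc1
    exact h.center u1 (h.le1 h1) (hgen u1 rfl h12 (h.z_comm u1 (h.le1 h1)))
  have hxc : x * c = c * x := by
    have e1 : Commute x u1 := hx1
    have e2 : Commute x u2 := hx2
    exact (((e1.mul_right e2).mul_right e1.inv_right).mul_right e2.inv_right).eq
  have hzc : z ∈ zpowers c := by
    have e1 : zpowers c ≤ zpowers z := by rwa [zpowers_le]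
    have e2 : zpowers c = zpowers z := by
      apply eq_of_le_of_card_ge e1
      have e3 := card_dvd_of_le e1
      rw [h.card_z] at e3 ⊢
      rcases (Nat.dvd_prime Nat.prime_three).1 e3 with e4 | e4
      · exfalso
        rw [Nat.card_zpowers, orderOf_eq_one_iff] at e4
        exact hc1 e4
      · exact e4.ge
    rw [e2]; exact mem_zpowers z
  have hxz : x * z = z * x := by
    obtain ⟨k, hk⟩ := mem_zpowers_iff.1 hzc
    rw [← hk]
    exact Commute.zpow_right hxc k
  exact h.centralizer_S (hgen x hx1 hx2 hxz)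

/-- the normaliser -/
theorem norm_z [Finite K] (h : Sys S U1 U2 z) {n : K} (hn : ∀ s ∈ S, n * s * n⁻¹ ∈ S) {x : K} (hx : x ∈ zpowers z) :
    n * x * n⁻¹ ∈ zpowers z := by
  have hS : ∀ s ∈ S, n⁻¹ * s * n ∈ S := by
    have e1 : (S : Subgroup K).map (MulAut.conj n).toMonoidHom = S := by
      apply eq_of_le_of_card_ge
      · rintro _ ⟨s, hs, rfl⟩
        exact hn s hs
      · rw [card_map_of_injective (MulAut.conj n).injective]
    intro s hs
    have e2 : s ∈ (S : Subgroup K).map (MulAut.conj n).toMonoidHom := by rw [e1]; exact hs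
    obtain ⟨t, ht, rfl⟩ := e2
    have e3 : n⁻¹ * (n * t * n⁻¹) * n = t := by group
    show n⁻¹ * (n * t * n⁻¹) * n ∈ S
    rw [e3]; exact ht
  have hxS : x ∈ S := h.le1 (h.z_mem1 hx)
  apply h.center _ (hn x hxS)
  intro y hy
  have e4 := hS y hy
  have e5 : x * (n⁻¹ * y * n) = (n⁻¹ * y * n) * x := by
    obtain ⟨k, rfl⟩ := mem_zpowers_iff.1 hx
    exact (Commute.zpow_right (h.z_comm _ e4) k).symm
  calc n * x * n⁻¹ * y = n * (x * (n⁻¹ * y * n)) * n⁻¹ := by group
    _ = n * ((n⁻¹ * y * n) * x) * n⁻¹ := by rw [e5]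
    _ = y * (n * x * n⁻¹) := by group

theorem norm_inv [Finite K] (h : Sys S U1 U2 z) {n : K} (hn : ∀ s ∈ S, n * s * n⁻¹ ∈ S) :
    ∀ s ∈ S, n⁻¹ * s * n⁻¹⁻¹ ∈ S := by
  have e1 : (S : Subgroup K).map (MulAut.conj n).toMonoidHom = S := by
    apply eq_of_le_of_card_ge
    · rintro _ ⟨s, hs, rfl⟩
      exact hn s hs
    · rw [card_map_of_injective (MulAut.conj n).injective]
  intro s hs
  have e2 : s ∈ (S : Subgroup K).map (MulAut.conj n).toMonoidHom := by rw [e1]; exact hs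
  obtain ⟨t, ht, rfl⟩ := e2
  have e3 : n⁻¹ * (n * t * n⁻¹) * n⁻¹⁻¹ = t := by group
  show n⁻¹ * (n * t * n⁻¹) * n⁻¹⁻¹ ∈ S
  rw [e3]; exact ht

theorem norm_1 [Finite K] (h : Sys S U1 U2 z) {n : K} (hn : ∀ s ∈ S, n * s * n⁻¹ ∈ S) {x : K} (hx : x ∈ U1) :
    n * x * n⁻¹ ∈ U1 := by
  rcases h.type n x hx (hn x (h.le1 hx)) with h1 | h1
  · exact h1
  · have h2 := h.scl _ h1 n⁻¹ (h.norm_inv hn _ (h.le2 h1))
    have h3 : n⁻¹ * (n * x * n⁻¹) * n⁻¹⁻¹ = x := by group
    rw [h3] at h2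
    have h4 : x ∈ zpowers z := by rw [← h.inf]; exact ⟨hx, h2⟩
    exact h.z_mem1 (h.norm_z hn h4)

theorem norm_not_z [Finite K] (h : Sys S U1 U2 z) {n : K} (hn : ∀ s ∈ S, n * s * n⁻¹ ∈ S) {x : K} (hx : x ∉ zpowers z) :
    n * x * n⁻¹ ∉ zpowers z := by
  intro h1
  apply hx
  have h2 := h.norm_z (h.norm_inv hn) h1
  have h3 : n⁻¹ * (n * x * n⁻¹) * n⁻¹⁻¹ = x := by group
  rwa [h3] at h2

open Classical in
/-- `|N(S)| ≤ 108` -/
theorem card_norm_le [Finite K] (h : Sys S U1 U2 z) {N : Subgroup K} (hN : ∀ n ∈ N, ∀ s ∈ S, n * s * n⁻¹ ∈ S) :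
    Nat.card N ≤ 108 := by
  obtain ⟨u1, h1, h1z⟩ := exists_not_mem h.card1 h
  obtain ⟨u2, h2, h2z⟩ := exists_not_mem h.card2 h
  have := Fintype.ofFinite K
  let s : Finset K := (N : Set K).toFinset
  let A : Finset K := (U1 : Set K).toFinset \ (zpowers z : Set K).toFinset
  let B : Finset K := (U2 : Set K).toFinset \ (zpowers z : Set K).toFinset
  have hA : A.card = 6 := by
    rw [Finset.card_sdiff_of_subset]
    · rw [Set.toFinset_card, Set.toFinset_card, ← Nat.card_eq_fintype_card, ← Nat.card_eq_fintype_card]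
      have e1 : Nat.card ↑(U1 : Set K) = 9 := h.card1
      have e2 : Nat.card ↑(zpowers z : Set K) = 3 := h.card_z
      rw [e1, e2]
    · rw [Set.toFinset_subset_toFinset]; exact h.z_mem1
  have hB : B.card = 6 := by
    rw [Finset.card_sdiff_of_subset]
    · rw [Set.toFinset_card, Set.toFinset_card, ← Nat.card_eq_fintype_card, ← Nat.card_eq_fintype_card]
      have e1 : Nat.card ↑(U2 : Set K) = 9 := h.card2
      have e2 : Nat.card ↑(zpowers z : Set K) = 3 := h.card_z
      rw [e1, e2]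
    · rw [Set.toFinset_subset_toFinset]; exact h.z_mem2
  have hs : s.card = Nat.card N := by
    rw [Set.toFinset_card, ← Nat.card_eq_fintype_card]; rfl
  rw [← hs]
  have hmain := Finset.card_le_mul_card_image_of_maps_to (f := fun n : K => (n * u1 * n⁻¹, n * u2 * n⁻¹)) (s := s) (t := A ×ˢ B)
    (by
      intro n hn
      have hn' : ∀ s ∈ S, n * s * n⁻¹ ∈ S := hN n (by simpa [s] using hn)
      simp only [Finset.mem_product, A, B, Finset.mem_sdiff, Set.mem_toFinset, SetLike.mem_coe]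
      exact ⟨⟨h.norm_1 hn' h1, h.norm_not_z hn' h1z⟩, ⟨h.scl u2 h2 n (hn' u2 (h.le2 h2)), h.norm_not_z hn' h2z⟩⟩) 3
    (by
      intro b hb
      rcases Finset.eq_empty_or_nonempty (s.filter fun n => (n * u1 * n⁻¹, n * u2 * n⁻¹) = b) with he | ⟨n0, hn0⟩
      · rw [he]; simp
      · rw [Finset.mem_filter] at hn0
        have hsub : (s.filter fun n => (n * u1 * n⁻¹, n * u2 * n⁻¹) = b) ⊆ ((zpowers z : Set K).toFinset).image (fun x => n0 * x) := by
          intro n hn
          rw [Finset.mem_filter] at hn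
          rw [Finset.mem_image]
          refine ⟨n0⁻¹ * n, ?_, by group⟩
          rw [Set.mem_toFinset]
          have e1 := hn.2.trans hn0.2.symm
          rw [Prod.mk.injEq] at e1
          have hcomm : ∀ u : K, n * u * n⁻¹ = n0 * u * n0⁻¹ → n0⁻¹ * n * u = u * (n0⁻¹ * n) := by
            intro u hu
            calc n0⁻¹ * n * u = n0⁻¹ * (n * u * n⁻¹) * n := by group
              _ = n0⁻¹ * (n0 * u * n0⁻¹) * n := by rw [hu]
              _ = u * (n0⁻¹ * n) := by group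
          exact h.comm_of_gens h1 h1z h2 h2z (hcomm u1 e1.1) (hcomm u2 e1.2)
        refine (Finset.card_le_card hsub).trans (Finset.card_image_le.trans ?_)
        rw [Set.toFinset_card, ← Nat.card_eq_fintype_card]
        exact h.card_z.le)
  rw [Finset.card_product, hA, hB] at hmain
  exact hmain

end Sys

end Cfsg.Agent.H410.Co1
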