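import Mathlib
import Cfsg.Agent.H776.Co.Loc
import Cfsg.Agent.H410.Co1.Fin
import Cfsg.Prelude.Def_TwoFusion
import Cfsg.Prelude.Def_FusionSystem

/-!
`Loc.move1` (S5227, section A) from the list of orders of simple groups and the theorem on strongly closed subgroups.
-/

set_option autoImplicit false
set_option linter.style.longLine false

namespace Cfsg.Agent.H410.Co1

open Subgroup Cfsg.Agent.H776.Co

universe u

variable {Γ : Type u} [Group Γ] {T U1 U2 : Subgroup Γ} {z : Γ}

theorem z3 (h : Loc T U1 U2 z ⊥) : z ^ 3 = 1 := by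
  apply h.exp
  apply h.le1
  have h1 : z ∈ U1 ⊓ U2 := by rw [h.inf]; exact mem_zpowers z
  exact h1.1

theorem card_zz (h : Loc T U1 U2 z ⊥) : Nat.card (zpowers z) = 3 := by
  rw [Nat.card_zpowers]
  exact orderOf_eq_prime (z3 h) h.z_ne

/-- if `U2` is not strongly closed then some element normalising `U1` moves `⟨z⟩` -/
theorem scl_of [Finite Γ] (h : Loc T U1 U2 z ⊥) (H : ∀ g : Γ, (∀ u ∈ U1, g * u * g⁻¹ ∈ U1) → g * z * g⁻¹ ∈ zpowers z) :
    ∀ x ∈ U2, ∀ g : Γ, g * x * g⁻¹ ∈ T → g * x * g⁻¹ ∈ U2 := by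
  intro x hx g hg
  by_contra hy2
  have hTp : IsPGroup 3 T := IsPGroup.of_card (n := 3) (by rw [h.card_T]; norm_num)
  let TS : Sylow 3 Γ := hTp.toSylow h.syl
  have hTS : (TS : Subgroup Γ) = T := rfl
  have hcS : ∀ Q : Sylow 3 Γ, Nat.card (Q : Subgroup Γ) = 27 := by
    intro Q
    rw [← h.card_T, ← hTS]
    exact Nat.card_congr (Sylow.equiv Q TS).toEquiv
  have hx1 : x ≠ 1 := by
    rintro rfl
    apply hy2
    rw [mul_one, mul_inv_cancel]; exact U2.one_mem
  have hy1 : g * x * g⁻¹ ∈ U1 := by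
    rcases h.type g x (Or.inr hx) hg with h1 | h1
    · exact h1
    · exact absurd h1 hy2
  set y : Γ := g * x * g⁻¹ with hy
  have hyne : y ≠ 1 := by
    intro h1
    rw [hy, conj_eq_one_iff] at h1
    exact hx1 h1
  have hz1 : zpowers z ≤ U1 := by rw [← h.inf]; exact inf_le_left
  have hz2 : zpowers z ≤ U2 := by rw [← h.inf]; exact inf_le_right
  have hyz : y ∉ zpowers z := fun h1 => hy2 (hz2 h1)
  have hU1p : IsPGroup 3 U1 := hTp.to_le h.le1
  have hU2p : IsPGroup 3 U2 := hTp.to_le h.le2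
  have hsup : zpowers y ⊔ zpowers z = U1 := by
    apply eq_of_le_of_card_ge (sup_le (by rwa [zpowers_le]) hz1)
    have h1 : Nat.card (zpowers z) ∣ Nat.card ↥(zpowers y ⊔ zpowers z) := card_dvd_of_le le_sup_right
    have h2 : Nat.card ↥(zpowers y ⊔ zpowers z) ∣ Nat.card U1 := card_dvd_of_le (sup_le (by rwa [zpowers_le]) hz1)
    rw [h.card1] at h2 ⊢
    rw [card_zz h] at h1
    have h3 : Nat.card ↥(zpowers y ⊔ zpowers z) ≠ 3 := by
      intro h4
      apply hyz
      have h5 : zpowers z = zpowers y ⊔ zpowers z := eq_of_le_of_card_ge le_sup_right (by rw [h4, card_zz h])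
      rw [h5]
      exact le_sup_left (a := zpowers y) (b := zpowers z) (mem_zpowers y)
    have h4 : Nat.card ↥(zpowers y ⊔ zpowers z) ∣ 3 ^ 2 := h2
    obtain ⟨k, hk, hk2⟩ := (Nat.dvd_prime_pow Nat.prime_three).1 h4
    rw [hk2] at h1 h3 ⊢
    interval_cases k
    · norm_num at h1
    · norm_num at h3
    · norm_num
  -- no Sylow subgroup centralises `y`
  have ha : ∀ T' : Sylow 3 Γ, ¬ (T' : Subgroup Γ) ≤ centralizer {y} := by
    intro T' hT'
    have hU1c : U1 ≤ centralizer {y} := by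
      intro u hu
      rw [mem_centralizer_singleton_iff]
      exact comm_of_card h.card1 hu hy1
    have h3 := h.tri y (Or.inl hy1) hyne (T' : Subgroup Γ) U1 T'.isPGroup' hU1p hT' hU1c
    have h4 : (T' : Subgroup Γ) ⊔ U1 = T' := T'.is_maximal' h3 le_sup_left
    have h5 : U1 ≤ T' := by rw [← h4]; exact le_sup_right
    have hcz : ∀ t ∈ T', t * z = z * t := by
      intro t ht
      have h6 : ∀ u ∈ U1, t * u * t⁻¹ ∈ U1 := fun u hu => conj_mem_of_card (hcS T') h5 h.card1 ht hu
      have h7 := H t h6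
      obtain ⟨k, hk⟩ := mem_zpowers_iff.1 h7
      have h8 : t * z * t⁻¹ = z ∨ t * z * t⁻¹ = z⁻¹ := by
        have h9 : t * z * t⁻¹ ≠ 1 := by rw [Ne, conj_eq_one_iff]; exact h.z_ne
        have h10 : k % 3 = 0 ∨ k % 3 = 1 ∨ k % 3 = 2 := by omega
        have hz3 : z ^ (3 : ℤ) = 1 := by exact_mod_cast z3 h
        have h11 : k = 3 * (k / 3) + k % 3 := by omega
        rw [h11, zpow_add, zpow_mul, hz3, one_zpow, one_mul] at hk
        rcases h10 with h10 | h10 | h10 <;> rw [h10] at hk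
        · exact absurd (hk.symm.trans (zpow_zero z)) h9
        · left; rw [← hk, zpow_one]
        · right
          rw [← hk, eq_inv_iff_mul_eq_one, ← zpow_add_one]
          exact hz3
      rcases h8 with h8 | h8
      · rwa [mul_inv_eq_iff_eq_mul] at h8
      · exfalso
        have h12 : t ^ 27 = 1 := by
          have h13 := pow_card_eq_one' (x := (⟨t, ht⟩ : (T' : Subgroup Γ)))
          rw [hcS T'] at h13
          exact congrArg Subtype.val h13
        have h14 : Commute (t ^ 2) z := by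
          have h15 : t * z = z⁻¹ * t := by rwa [mul_inv_eq_iff_eq_mul] at h8
          have h16 : t * z⁻¹ = z * t := by
            have h17 : t * z⁻¹ * t⁻¹ = (t * z * t⁻¹)⁻¹ := by group
            rw [h8, inv_inv, mul_inv_eq_iff_eq_mul] at h17
            exact h17
          show t ^ 2 * z = z * t ^ 2
          rw [pow_two, mul_assoc, h15, ← mul_assoc, h16, mul_assoc]
        have h18 : Commute ((t ^ 2) ^ 14) z := h14.pow_left 14
        have h19 : (t ^ 2) ^ 14 = t := by
          rw [← pow_mul, show 2 * 14 = 27 + 1 from rfl, pow_succ, h12, one_mul]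
        rw [h19] at h18
        have h20 : z = z⁻¹ := by
          rw [← h8, h18.eq, mul_inv_cancel_right]
        have h21 : z * z = 1 := by
          nth_rewrite 2 [h20]
          exact mul_inv_cancel z
        apply h.z_ne
        have h22 := z3 h
        rw [pow_succ, pow_two, h21, one_mul] at h22
        exact h22
    have hT'U : ∀ t ∈ T', ∀ u ∈ U1, u * t = t * u := by
      intro t ht u hu
      have h6 : U1 ≤ centralizer {t} := by
        rw [← hsup, sup_le_iff, zpowers_le, zpowers_le, mem_centralizer_singleton_iff, mem_centralizer_singleton_iff]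
        exact ⟨(mem_centralizer_singleton_iff.1 (hT' ht)).symm, (hcz t ht).symm⟩
      exact mem_centralizer_singleton_iff.1 (h6 hu)
    obtain ⟨w, hw⟩ := MulAction.exists_smul_eq Γ T' TS
    have hmem : ∀ t ∈ T', w * t * w⁻¹ ∈ T := by
      intro t ht
      rw [← hTS, ← hw]
      exact Subgroup.smul_mem_pointwise_smul t (MulAut.conj w) (T' : Subgroup Γ) ht
    have hmem' : ∀ t ∈ T, ∃ t' ∈ T', w * t' * w⁻¹ = t := by
      intro t ht
      rw [← hTS, ← hw] at ht
      obtain ⟨t', ht', rfl⟩ := ht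
      exact ⟨t', ht', rfl⟩
    have h23 : U1.map (MulAut.conj w).toMonoidHom ≤ zpowers z := by
      rintro _ ⟨u, hu, rfl⟩
      show w * u * w⁻¹ ∈ zpowers z
      apply h.center _ (hmem u (h5 hu))
      intro t ht
      obtain ⟨t', ht', rfl⟩ := hmem' t ht
      have h24 := hT'U t' ht' u hu
      calc w * u * w⁻¹ * (w * t' * w⁻¹) = w * (u * t') * w⁻¹ := by group
        _ = w * (t' * u) * w⁻¹ := by rw [h24]
        _ = _ := by group
    have h25 := card_le_of_le h23
    rw [card_map_of_injective (MulAut.conj w).injective, card_zz h, h.card1] at h25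
    omega
  -- the conjugate of `U1` in the centraliser of `x`
  set P : Subgroup Γ := U1.map (MulAut.conj g⁻¹).toMonoidHom with hP
  have hPc : P ≤ centralizer {x} := by
    rintro _ ⟨u, hu, rfl⟩
    rw [mem_centralizer_singleton_iff]
    show g⁻¹ * u * g⁻¹⁻¹ * x = x * (g⁻¹ * u * g⁻¹⁻¹)
    have h1 := comm_of_card h.card1 hu hy1
    calc g⁻¹ * u * g⁻¹⁻¹ * x = g⁻¹ * (u * (g * x * g⁻¹)) * g := by group
      _ = g⁻¹ * ((g * x * g⁻¹) * u) * g := by rw [← hy, h1]
      _ = _ := by group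
  have hU2c : U2 ≤ centralizer {x} := by
    intro u hu
    rw [mem_centralizer_singleton_iff]
    exact comm_of_card h.card2 hu hx
  have hPp : IsPGroup 3 P := hU1p.map _
  have hW := h.tri x (Or.inr hx) hx1 P U2 hPp hU2p hPc hU2c
  obtain ⟨Q, hQ⟩ := hW.exists_le_sylow
  have hd : Nat.card ↥(P ⊔ U2) ∣ 3 ^ 3 := by
    have h1 := card_dvd_of_le hQ
    rw [hcS Q] at h1; exact h1
  have hd2 : 9 ∣ Nat.card ↥(P ⊔ U2) := by
    have h1 := card_dvd_of_le (le_sup_right : U2 ≤ P ⊔ U2)
    rwa [h.card2] at h1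
  obtain ⟨k, hk, hk2⟩ := (Nat.dvd_prime_pow Nat.prime_three).1 hd
  have h27 : Nat.card ↥(P ⊔ U2) ≠ 27 := by
    intro h27
    have h1 : P ⊔ U2 = Q := eq_of_le_of_card_ge hQ (by rw [h27, hcS Q])
    have h2 : (Q : Subgroup Γ) ≤ centralizer {x} := by rw [← h1]; exact sup_le hPc hU2c
    apply ha (g • Q)
    intro a ha'
    obtain ⟨q, hq, rfl⟩ := ha'
    have h3 := mem_centralizer_singleton_iff.1 (h2 hq)
    rw [mem_centralizer_singleton_iff]
    show g * q * g⁻¹ * y = y * (g * q * g⁻¹)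
    rw [hy]
    calc g * q * g⁻¹ * (g * x * g⁻¹) = g * (q * x) * g⁻¹ := by group
      _ = g * (x * q) * g⁻¹ := by rw [h3]
      _ = _ := by group
  have h9 : Nat.card ↥(P ⊔ U2) = 9 := by
    rw [hk2] at hd2 h27 ⊢
    interval_cases k
    · norm_num at hd2
    · norm_num at hd2
    · norm_num
    · norm_num at h27
  have heq : U2 = P ⊔ U2 := eq_of_le_of_card_ge le_sup_right (by rw [h9, h.card2])
  obtain ⟨u, hu, hu2⟩ := h.not_conj g⁻¹
  apply hu2
  rw [heq]
  have h1 : g⁻¹ * u * g⁻¹⁻¹ ∈ P := ⟨u, hu, rfl⟩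
  exact le_sup_left (a := P) (b := U2) h1

/-- the hypothesis on orders of simple groups -/
def List3 : Prop := ∀ (K : Type u) [Group K] [Finite K] [IsSimpleGroup K] (_ : ¬ IsMulCommutative K) (T : Sylow 3 K)
    (_ : Nat.card T = 27) (_ : ¬ ∀ x y : T, x * y = y * x) (_ : Nat.card K ∣ 2 ^ 13 * 3 ^ 3 * 5 * 7 * 11 ^ 2 * 13 ^ 2),
    Nat.card K = 5616 ∨ Nat.card K = 6048 ∨ Nat.card K = 95040

/-- the hypothesis on strongly closed subgroups -/
def Closed3 : Prop := ∀ (K : Type u) [Group K] [Finite K] [IsSimpleGroup K] (_ : ¬ IsMulCommutative K) (S : Sylow 3 K)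
    (T : Subgroup K) (_ : T ≠ ⊥) (_ : T < (S : Subgroup K)) (_ : Cfsg.IsStronglyClosed T (S : Subgroup K)),
    (Cfsg.groupFusionSystem (S : Subgroup K)).IsNormal S ∨ Nat.card T = 3

theorem perfect {K : Type u} [Group K] [IsSimpleGroup K] (hc : ¬ IsMulCommutative K) : commutator K = ⊤ := by
  rcases (inferInstance : (commutator K).Normal).eq_bot_or_eq_top with h | h
  · exfalso
    apply hc
    rw [commutator_eq_bot_iff_center_eq_top] at h
    refine ⟨⟨fun a b => ?_⟩⟩
    have h1 : a ∈ center K := by rw [h]; exact mem_top a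
    exact (mem_center_iff.1 h1 b).symm
  · exact h

theorem move1_of [Finite Γ] (hL : List3.{u}) (hC : Closed3.{u}) (h : Loc T U1 U2 z ⊥) {K : Subgroup Γ} (hs : IsSimpleGroup K)
    (hc : ¬ IsMulCommutative K) (hT : T ≤ K) :
    ∃ g : Γ, (∀ u ∈ U1, g * u * g⁻¹ ∈ U1) ∧ g * z * g⁻¹ ∉ zpowers z := by
  by_contra hcon
  push Not at hcon
  have hscl := scl_of h hcon
  have hTp : IsPGroup 3 T := IsPGroup.of_card (n := 3) (by rw [h.card_T]; norm_num)
  -- the Sylow subgroup of `K`
  have hTKp : IsPGroup 3 (T.subgroupOf K) := hTp.comap_of_injective K.subtype K.subtype_injective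
  have hidx : ¬ 3 ∣ (T.subgroupOf K).index := by
    intro h1
    apply h.syl
    have h2 : T.relIndex K * K.index = T.index := relIndex_mul_index hT
    rw [← h2]
    exact h1.mul_right _
  let S : Sylow 3 K := hTKp.toSylow hidx
  have hS : (S : Subgroup K) = T.subgroupOf K := rfl
  have hmemS : ∀ x : K, x ∈ S ↔ (x : Γ) ∈ T := fun x => mem_subgroupOf
  have hU1K : U1 ≤ K := h.le1.trans hT
  have hU2K : U2 ≤ K := h.le2.trans hT
  have hzU : z ∈ U1 := by
    have h1 : z ∈ U1 ⊓ U2 := by rw [h.inf]; exact mem_zpowers z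
    exact h1.1
  have hzK : z ∈ K := hU1K hzU
  have hzp : ∀ x : K, x ∈ zpowers (⟨z, hzK⟩ : K) ↔ (x : Γ) ∈ zpowers z := by
    intro x
    rw [mem_zpowers_iff, mem_zpowers_iff]
    constructor
    · rintro ⟨k, hk⟩
      exact ⟨k, by rw [← hk]; rfl⟩
    · rintro ⟨k, hk⟩
      exact ⟨k, Subtype.ext hk⟩
  have hsys : Sys S (U1.subgroupOf K) (U2.subgroupOf K) ⟨z, hzK⟩ := by
    refine ⟨?_, ?_, ?_, ?_, ?_, ?_, ?_, ?_, ?_, ?_, ?_, ?_, ?_⟩
    · show Nat.card ↥(T.subgroupOf K) = 27
      rw [← h.card_T]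
      exact Nat.card_congr (subgroupOfEquivOfLe hT).toEquiv
    · intro x hx
      exact h.le1 hx
    · intro x hx
      exact h.le2 hx
    · rw [← h.card1]
      exact Nat.card_congr (subgroupOfEquivOfLe hU1K).toEquiv
    · rw [← h.card2]
      exact Nat.card_congr (subgroupOfEquivOfLe hU2K).toEquiv
    · ext x
      rw [hzp, ← h.inf]
      rfl
    · intro h1
      exact h.z_ne (congrArg Subtype.val h1)
    · exact Subtype.ext (z3 h)
    · intro x hx
      exact Subtype.ext (h.z_comm x hx)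
    · intro x hx hxc
      rw [hzp]
      apply h.center x hx
      intro y hy
      exact congrArg Subtype.val (hxc ⟨y, hT hy⟩ hy)
    · intro x hx g hg
      exact hscl x hx g hg
    · intro g x hx hg
      exact h.type g x (Or.inl hx) hg
    · intro R hR1 hR2
      have h1 : R.map K.subtype ≤ ⊥ := by
        apply h.sig
        · rintro t ht _ ⟨r, hr, rfl⟩
          exact ⟨⟨t, hT ht⟩ * r * ⟨t, hT ht⟩⁻¹, hR1 ⟨t, hT ht⟩ ht r hr, rfl⟩
        · rw [card_map_of_injective K.subtype_injective]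
          exact hR2
      rw [le_bot_iff, map_eq_bot_iff_of_injective _ K.subtype_injective] at h1
      exact h1
  have hclosed : Cfsg.IsStronglyClosed (U2.subgroupOf K) (S : Subgroup K) := by
    refine ⟨hsys.le2, ?_⟩
    intro x hx g hg
    exact hsys.scl x hx g hg
  have hnormal : (Cfsg.groupFusionSystem (S : Subgroup K)).IsNormal S := by
    rcases hC K hc S (U2.subgroupOf K) (by
      intro h1
      have h2 := hsys.card2
      rw [h1, card_bot] at h2
      omega) (by
      refine lt_of_le_of_ne hsys.le2 ?_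
      intro h1
      have h2 := hsys.card2
      rw [h1, hsys.cardS'] at h2
      omega) hclosed with h1 | h1
    · exact h1
    · rw [hsys.card2] at h1
      omega
  have hN : ∀ V : Subgroup K, V ≤ S → ∀ g : K, (∀ x ∈ V, g * x * g⁻¹ ∈ S) →
      ∃ n : K, (∀ s ∈ S, n * s * n⁻¹ ∈ S) ∧ ∀ x ∈ V, n * x * n⁻¹ = g * x * g⁻¹ := by
    intro V hV g hg
    obtain ⟨ψ, ⟨-, hψS, n, hn⟩, hext, -⟩ := hnormal.2 V (Cfsg.conjHom V g) ⟨hV, fun x => hg x x.2, g, fun x => rfl⟩
    refine ⟨n, ?_, ?_⟩
    · intro s hs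
      have h1 := hψS ⟨s, le_sup_right (a := V) (b := (S : Subgroup K)) hs⟩
      rw [hn] at h1
      exact h1
    · intro x hx
      have h1 := hext ⟨x, hx⟩
      rw [hn] at h1
      exact h1
  refine hsys.contra (perfect hc) hN ?_
  refine hL K hc S hsys.cardS ?_ ?_
  · intro h1
    have h2 : (S : Subgroup K) ≤ zpowers (⟨z, hzK⟩ : K) := by
      intro x hx
      apply hsys.center x hx
      intro y hy
      exact congrArg Subtype.val (h1 ⟨x, hx⟩ ⟨y, hy⟩)
    have h3 := card_le_of_le h2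
    rw [hsys.card_z, hsys.cardS'] at h3
    omega
  · exact (card_subgroup_dvd_card K).trans h.ord

end Cfsg.Agent.H410.Co1
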