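import Cfsg.Agent.S5116
import Cfsg.Agent.H410.Co1.MoveA

set_option autoImplicit false

namespace Cfsg.Agent.H410.Co1

open Subgroup Cfsg.Agent.H776.Co

universe u

theorem closed3 : Closed3.{u} := by
  intro K _ _ _ hc S T hT hTS hsc
  rcases Cfsg.Agent.S5116.result hc 3 S T hT hTS hsc with h | ⟨-, -, -, h⟩
  · exact Or.inl h
  · exact Or.inr h

/-- `Loc.move1` from the list `simple_list` of orders of simple groups -/
theorem move1_of_list {Γ : Type u} [Group Γ] [Finite Γ] {T U1 U2 : Subgroup Γ} {z : Γ} (hL : List3.{u})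
    (h : Loc T U1 U2 z ⊥) {K : Subgroup Γ} (_hK : K.Normal) (hs : IsSimpleGroup K) (hc : ¬ IsMulCommutative K) (hT : T ≤ K) :
    ∃ g : Γ, (∀ u ∈ U1, g * u * g⁻¹ ∈ U1) ∧ g * z * g⁻¹ ∉ zpowers z :=
  move1_of hL closed3 h hs hc hT

end Cfsg.Agent.H410.Co1
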